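import Cfsg.Agent.Lib.PermComp.OutP.J3.Data

set_option autoImplicit false
set_option maxRecDepth 100000
set_option maxHeartbeats 0

namespace Cfsg.Agent.Lib.PermComp.OutP.J3

open Cfsg Cfsg.Agent.Lib.PermComp.OutP
open Cfsg.Agent.Lib.PermComp.Core (force)
open Cfsg.Agent.Lib.PermComp.Kron (rangeAll rangeAll_spec)

theorem scl_ck : rangeAll (closeOK F SS Bs) 0 128 = true := by decide +kernel
theorem ssr_ck : sortR (fun i => keyOf n (SS.v F i) Bs) 0 127 = true := by decide +kernel
theorem skd_ck : rangeAll (pkOK F n 26163 (DD.v F) (othF F []) (othB []) SS Bs) 0 128 = true := by decide +kernel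

end Cfsg.Agent.Lib.PermComp.OutP.J3
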