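import Cfsg.Agent.Lib.PermComp.OutP.J3.ChkT
import Cfsg.Agent.Lib.PermComp.OutP.J3.ChkL
import Cfsg.Agent.Lib.PermComp.OutP.J3.ChkS
import Cfsg.Agent.Lib.PermComp.OutP.J3.ChkR
import Cfsg.Agent.Lib.PermComp.OutP.J3.ChkO
import Cfsg.Agent.Lib.PermComp.OutP.J3.ChkP

set_option autoImplicit false
set_option maxRecDepth 100000
set_option maxHeartbeats 0

namespace Cfsg.Agent.Lib.PermComp.OutP.J3

open Cfsg Cfsg.Agent.Lib.PermComp.OutP
open Cfsg.Agent.Lib.PermComp.Core (force)
open Cfsg.Agent.Lib.PermComp.Kron (rangeAll rangeAll_spec)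

theorem hn : 0 < n := by decide

theorem hlt : ∀ g < 66, 2 ≤ g → ∀ a ∈ prog g, a < g := by
  intro g hg _ a ha
  have h := range_of (p := fun g => Core.allL (fun a => Nat.blt a g) (prog g)) (lo := 0) (len := 66) (hi := 66) hlt_ck rfl g (Nat.zero_le _) hg
  exact blt_lt ((Core.allL_eq_true _ _).1 h a ha)

theorem hp : ∀ g < 66, 2 ≤ g → ∀ q < 6156, F g q = wApp F (prog g) q := by
  intro g hg h2 q hq
  have h : progR F g (prog g) 0 6156 = true := by
    interval_cases g
    · exact hp_2
    · exact hp_3
    · exact hp_4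
    · exact hp_5
    · exact hp_6
    · exact hp_7
    · exact hp_8
    · exact hp_9
    · exact hp_10
    · exact hp_11
    · exact hp_12
    · exact hp_13
    · exact hp_14
    · exact hp_15
    · exact hp_16
    · exact hp_17
    · exact hp_18
    · exact hp_19
    · exact hp_20
    · exact hp_21
    · exact hp_22
    · exact hp_23
    · exact hp_24
    · exact hp_25
    · exact hp_26
    · exact hp_27
    · exact hp_28
    · exact hp_29
    · exact hp_30
    · exact hp_31
    · exact hp_32
    · exact hp_33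
    · exact hp_34
    · exact hp_35
    · exact hp_36
    · exact hp_37
    · exact hp_38
    · exact hp_39
    · exact hp_40
    · exact hp_41
    · exact hp_42
    · exact hp_43
    · exact hp_44
    · exact hp_45
    · exact hp_46
    · exact hp_47
    · exact hp_48
    · exact hp_49
    · exact hp_50
    · exact hp_51
    · exact hp_52
    · exact hp_53
    · exact hp_54
    · exact hp_55
    · exact hp_56
    · exact hp_57
    · exact hp_58
    · exact hp_59
    · exact hp_60
    · exact hp_61
    · exact hp_62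
    · exact hp_63
    · exact hp_64
    · exact hp_65
  exact Nat.eq_of_beq_eq_true (rangeAll_spec h q (Nat.zero_le _) (by omega))

theorem hds : LevsC n 66 F [] ds := ⟨fun s hs => range_of (p := levOK n F dL0) (lo := 0) (len := 6156) (hi := 6156) dL0_lv rfl s (Nat.zero_le _) hs, by decide +kernel, by decide +kernel, dL0_fx, by decide +kernel, ⟨fun s hs => range_of (p := levOK n F dL1) (lo := 0) (len := 2040) (hi := 2040) dL1_lv rfl s (Nat.zero_le _) hs, by decide +kernel, by decide +kernel, dL1_fx, by decide +kernel, ⟨fun s hs => range_of (p := levOK n F dL2) (lo := 0) (len := 4) (hi := 4) dL2_lv rfl s (Nat.zero_le _) hs, by decide +kernel, by decide +kernel, dL2_fx, by decide +kernel, trivial⟩⟩⟩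

theorem hcs : LevsC n 66 F [] cs := ⟨fun s hs => range_of (p := levOK n F cL0) (lo := 0) (len := 960) (hi := 960) cL0_lv rfl s (Nat.zero_le _) hs, by decide +kernel, by decide +kernel, cL0_fx, by decide +kernel, ⟨fun s hs => range_of (p := levOK n F cL1) (lo := 0) (len := 2) (hi := 2) cL1_lv rfl s (Nat.zero_le _) hs, by decide +kernel, by decide +kernel, cL1_fx, by decide +kernel, trivial⟩⟩

theorem hdsm : ∀ d ∈ ds, d.off + d.cnt ≤ 66 := by
  have h : Core.allL (fun d => Nat.ble (d.off + d.cnt) 66) ds = true := by decide +kernel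
  exact fun d hd => Nat.le_of_ble_eq_true ((Core.allL_eq_true _ _).1 h d hd)

theorem hcomm : ∀ d ∈ cs, d.off + d.cnt ≤ 66 ∧ ∀ g, d.off ≤ g → g < d.off + d.cnt → ∀ q < 6156, F g (F 1 q) = F 1 (F g q) := by
  intro d hd
  simp only [cs, List.mem_cons, List.not_mem_nil, or_false] at hd
  rcases hd with rfl | rfl
  · refine ⟨by decide +kernel, fun g h1 h2 q hq => ?_⟩
    have h := rangeAll_spec cL0_cm g h1 (by simpa [cL0] using h2)
    exact Nat.eq_of_beq_eq_true (rangeAll_spec h q (Nat.zero_le _) (by simpa [n] using hq))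
  · refine ⟨by decide +kernel, fun g h1 h2 q hq => ?_⟩
    have h := rangeAll_spec cL1_cm g h1 (by simpa [cL1] using h2)
    exact Nat.eq_of_beq_eq_true (rangeAll_spec h q (Nat.zero_le _) (by simpa [n] using hq))

theorem hsort : ∀ j, j + 1 < DD.L → DD.key n F j < DD.key n F (j + 1) := by
  have h : ∀ j, 0 ≤ j → j < 26162 → DD.key n F j < DD.key n F (j + 1) := by
    exact (fun j h1 h2 => sortR_spec srt_c0 j h1 (by omega))
  intro j hj
  have hL : DD.L = 26163 := rfl
  exact h j (Nat.zero_le _) (by omega)

theorem hD : DD.OK n 66 F where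
  ht0 := by decide +kernel
  hcnt := by decide +kernel
  hoff := by decide +kernel
  hQ := by
    have h : Core.allL (fun q => Nat.blt q n) DD.Q = true := by decide +kernel
    exact fun q hq => blt_lt ((Core.allL_eq_true _ _).1 h q hq)
  hinvol := by
    intro g h1 h2 p hp
    have h := rangeAll_spec zinv_ck g h1 (by simpa [DD] using h2)
    exact Nat.eq_of_beq_eq_true (rangeAll_spec h p (Nat.zero_le _) (by simpa [n] using hp))
  hsort := hsort

theorem hS : SS.OK n 66 DD.L F (DD.v F) (othF F []) (othB []) Bs where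
  hcnt := by decide +kernel
  hoff := by decide +kernel
  hr0 := by decide +kernel
  hBs := by
    have h : Core.allL (fun q => Nat.blt q n) Bs = true := by decide +kernel
    exact fun q hq => blt_lt ((Core.allL_eq_true _ _).1 h q hq)
  hclose := fun i hi => rangeAll_spec scl_ck i (Nat.zero_le _) (by simpa [SS] using hi)
  hsort := by
    intro j hj
    exact sortR_spec ssr_ck j (Nat.zero_le _) (by have : SS.P = 128 := rfl; omega)
  hkind := fun i hi => rangeAll_spec skd_ck i (Nat.zero_le _) (by simpa [SS] using hi)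

theorem hC : Common n 66 50232960 1920 7 392445 19 F prog ds cs DD SS Bs [] rs goods where
  hn := hn
  hm1 := by decide
  hlt := hlt
  hp := hp
  hds := hds
  hdsm := hdsm
  hprod := by decide +kernel
  hBs := by decide +kernel
  hDt := rfl
  hD := hD
  hcs := hcs
  hcomm := hcomm
  hc := by decide +kernel
  hLc := by decide +kernel
  hS := hS
  hP := by decide +kernel
  hN2 := by decide +kernel
  hmm := by norm_num
  hOs := by simp
  hb2 := fun q hq => Nat.eq_of_beq_eq_true (rangeAll_spec b2_ck q (Nat.zero_le _) (by simpa [n] using hq))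
  hb1 := ⟨0, by decide, b1_ck⟩
  hAp := fun q hq => Nat.eq_of_beq_eq_true (rangeAll_spec Ap_ck q (Nat.zero_le _) (by simpa [n] using hq))
  hA1 := ⟨0, by decide, A1_ck⟩
  hq := by
    have h : Core.allL (fun r => Nat.blt r.2.2 n) rs = true := by decide +kernel
    exact fun r hr => blt_lt ((Core.allL_eq_true _ _).1 h r hr)
  hchk := by
    intro i hi
    exact (join_range (join_range (join_range (range_of (p := (rchk F 0 DD rs goodIdx)) (lo := 0) (len := 2000) (hi := 2000) rc_c0 rfl) (join_range (range_of (p := (rchk F 0 DD rs goodIdx)) (lo := 2000) (len := 2000) (hi := 4000) rc_c1 rfl) (range_of (p := (rchk F 0 DD rs goodIdx)) (lo := 4000) (len := 2000) (hi := 6000) rc_c2 rfl))) (join_range (join_range (range_of (p := (rchk F 0 DD rs goodIdx)) (lo := 6000) (len := 2000) (hi := 8000) rc_c3 rfl) (range_of (p := (rchk F 0 DD rs goodIdx)) (lo := 8000) (len := 2000) (hi := 10000) rc_c4 rfl)) (join_range (range_of (p := (rchk F 0 DD rs goodIdx)) (lo := 10000) (len := 2000) (hi := 12000) rc_c5 rfl) (range_of (p := (rchk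 F 0 DD rs goodIdx)) (lo := 12000) (len := 2000) (hi := 14000) rc_c6 rfl)))) (join_range (join_range (range_of (p := (rchk F 0 DD rs goodIdx)) (lo := 14000) (len := 2000) (hi := 16000) rc_c7 rfl) (join_range (range_of (p := (rchk F 0 DD rs goodIdx)) (lo := 16000) (len := 2000) (hi := 18000) rc_c8 rfl) (range_of (p := (rchk F 0 DD rs goodIdx)) (lo := 18000) (len := 2000) (hi := 20000) rc_c9 rfl))) (join_range (join_range (range_of (p := (rchk F 0 DD rs goodIdx)) (lo := 20000) (len := 2000) (hi := 22000) rc_c10 rfl) (range_of (p := (rchk F 0 DD rs goodIdx)) (lo := 22000) (len := 2000) (hi := 24000) rc_c11 rfl)) (join_range (range_of (p := (rchk F 0 DD rs goodIdx)) (lo := 24000) (len := 2000) (hi := 26000) rc_c12 rfl) (range_of (p := (rchk F 0 DD rs goodIdx)) (lo := 26000) (len := 163) (hi := 26163) rc_c13 rfl))))) i (Nat.zero_le _) hi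
  hrel := by
    intro r hr q hq
    exact rangeAll_spec ((Core.allL_eq_true _ _).1 rel_ck r hr) q (Nat.zero_le _) (by simpa [n] using hq)
  hgood := by
    intro x hx
    have h := (Core.allL_eq_true _ _).1 good_ck x hx
    rw [Core.ifB_eq_true] at h
    exact ⟨Nat.le_of_ble_eq_true h.1, h.2⟩

theorem hcr : ∀ q < n, F 65 (F 0 q) = powA (F 0) 4 (F 65 q) := fun q hq =>
  Nat.eq_of_beq_eq_true (rangeAll_spec cr_ck q (Nat.zero_le _) (by simpa [n] using hq))

instance fp : Fact (Nat.Prime 19) := ⟨by norm_num⟩

theorem hjinv : ∀ q < n, invOK n (F 83) (F 84) q = true := fun q hq => rangeAll_spec ji_ck q (Nat.zero_le _) (by simpa [n] using hq)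

/-- The main theorem. -/
theorem hsift : (∃ pre d post, ds = pre ++ d :: post ∧ (∀ d' ∈ pre, F 85 d'.b = d'.b) ∧ d.m ≤ d.pi (F 85 d.b)) ∨ ((∀ d' ∈ ds, F 85 d'.b = d'.b) ∧ ∃ q < n, F 85 q ≠ q) := by
  left
  refine ⟨[dL0, dL1], dL2, [], rfl, ?_, by decide +kernel⟩
  have h : Core.allL (fun d => Nat.beq (F 85 d.b) d.b) [dL0, dL1] = true := by decide +kernel
  exact fun d hd => Nat.eq_of_beq_eq_true ((Core.allL_eq_true _ _).1 h d hd)

theorem main {H : Subgroup (Equiv.Perm (Fin 6156))} (hcard : Nat.card H = 50232960) {A b : Equiv.Perm (Fin 6156)} (hA : A ∈ H) (hb : b ∈ H) (rA : Rp (F 0) A) (rb : Rp (F 1) b) : Nat.card (Out H) = 2 := by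
  refine master_two hC hcard hA hb rA rb (gc := 65) (r := 4) (mp := 2643840) (by decide) hcr (by decide +kernel) (by norm_num) 2 (by decide +kernel) hjinv
    (fun q hq => Nat.eq_of_beq_eq_true (rangeAll_spec jA_ck q (Nat.zero_le _) (by simpa [n] using hq)))
    (fun q hq => Nat.eq_of_beq_eq_true (rangeAll_spec jb_ck q (Nat.zero_le _) (by simpa [n] using hq)))
    (rw := rwL) (by decide +kernel)
    (fun q hq => Nat.eq_of_beq_eq_true (rangeAll_spec gr_ck q (Nat.zero_le _) (by simpa [n] using hq)))
    hsift (d1 := dL0) (d2 := dL1) (rest := [dL2]) rfl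
    (fun q hq => by
      have h := rangeAll_spec d1s_ck q (Nat.zero_le _) (by simpa [n] using hq)
      rw [Core.ifB_eq_true] at h
      exact ⟨blt_lt h.1, Nat.eq_of_beq_eq_true h.2⟩)
    (fun q hq => rangeAll_spec mv_ck q (Nat.zero_le _) (by simpa [n] using hq))

/-- The two generators are in a group containing the given generators. -/
theorem has_gens {H : Subgroup (Equiv.Perm (Fin 6156))} (hX : ∀ g, 66 ≤ g → g < 68 → Has F H g) : Has F H 0 ∧ Has F H 1 := by
  have h2 : ∀ g, 66 ≤ g → g < 83 → Has F H g := by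
    refine has_range hX prog2 ?_ ?_
    · intro g h1 h2
      have hb : Core.allL (fun g => Core.allL (fun a => Core.ifB (Nat.ble 66 a) (Nat.blt a g)) (prog2 g)) (List.range' 68 15) = true := by decide +kernel
      intro a ha
      have h3 := (Core.allL_eq_true _ _).1 ((Core.allL_eq_true _ _).1 hb g (List.mem_range'_1.2 ⟨h1, by omega⟩)) a ha
      rw [Core.ifB_eq_true] at h3
      exact ⟨Nat.le_of_ble_eq_true h3.1, blt_lt h3.2⟩
    · intro g h1 h2 q hq
      have h : progR F g (prog2 g) 0 6156 = true := by
        interval_cases g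
        · exact hp2_68
        · exact hp2_69
        · exact hp2_70
        · exact hp2_71
        · exact hp2_72
        · exact hp2_73
        · exact hp2_74
        · exact hp2_75
        · exact hp2_76
        · exact hp2_77
        · exact hp2_78
        · exact hp2_79
        · exact hp2_80
        · exact hp2_81
        · exact hp2_82
      exact Nat.eq_of_beq_eq_true (rangeAll_spec h q (Nat.zero_le _) (by omega))
  refine ⟨has_of_word (w := [69]) ?_ ?_, has_of_word (w := [82]) ?_ ?_⟩
  · intro a ha
    simp only [List.mem_singleton] at ha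
    subst ha
    exact h2 _ (by norm_num) (by norm_num)
  · have h : rangeAll (fun q => Nat.beq (F 0 q) (wApp F [69] q)) 0 6156 = true := by decide +kernel
    exact fun q hq => Nat.eq_of_beq_eq_true (rangeAll_spec h q (Nat.zero_le _) (by omega))
  · intro a ha
    simp only [List.mem_singleton] at ha
    subst ha
    exact h2 _ (by norm_num) (by norm_num)
  · have h : rangeAll (fun q => Nat.beq (F 1 q) (wApp F [82] q)) 0 6156 = true := by decide +kernel
    exact fun q hq => Nat.eq_of_beq_eq_true (rangeAll_spec h q (Nat.zero_le _) (by omega))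

/-- The final theorem. -/
theorem card_out {H : Subgroup (Equiv.Perm (Fin 6156))} (hcard : Nat.card H = 50232960) (hX : ∀ g, 66 ≤ g → g < 68 → Has F H g) : Nat.card (Out H) = 2 := by
  obtain ⟨⟨A, hA, rA⟩, ⟨b, hb, rb⟩⟩ := has_gens hX
  exact main hcard hA hb rA rb

end Cfsg.Agent.Lib.PermComp.OutP.J3
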